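import Groth.Agent.Lib.EtLimit.StalkRpushHens
import Groth.Agent.Lib.Hensel.Noetherian
import Groth.Agent.Lib.Hensel.Regular
import Groth.Agent.Lib.CMFree.Regular
import Groth.Agent.Lib.ConstrCpt.Descent
import Groth.Agent.Lib.ShDvrCd18.Cd
import Groth.Agent.Lib.EtBasicB.GlobalSections
import Groth.Agent.Lib.CdBr2.Torsion
import Mathlib.Algebra.Category.Ring.Constructions

/-!
# Higher direct images from the generic point of a curve with discrete valuation rings as local rings
-/

set_option autoImplicit false
set_option backward.isDefEq.respectTransparency false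
set_option backward.isDefEq.respectTransparency.types false
set_option linter.style.haveILetI false
set_option linter.all false

universe u

open CategoryTheory CategoryTheory.Limits AlgebraicGeometry IsLocalRing

noncomputable section

namespace GrothLib.HLoc18

/-- Pullback squares are preserved by composition with a monomorphism. -/
theorem isPullback_comp_mono {C : Type*} [Category C] {P X Y Z W : C} {fst : P ⟶ X} {snd : P ⟶ Y}
    {f : X ⟶ Z} {g : Y ⟶ Z} (h : IsPullback fst snd f g) (m : Z ⟶ W) [Mono m] :
    IsPullback fst snd (f ≫ m) (g ≫ m) :=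
  IsPullback.mk' (by rw [← Category.assoc, h.w, Category.assoc])
    (fun T a b h1 h2 => h.hom_ext h1 h2)
    (fun T a b hab => ⟨h.lift a b (by rwa [← cancel_mono m, Category.assoc, Category.assoc]),
      h.lift_fst _ _ _, h.lift_snd _ _ _⟩)

/-- Fractions of a strict henselization are obtained by inverting the nonzero elements of the base. -/
theorem isLocalization_map_of_dvd {A R L : Type u} [CommRing A] [IsDomain A] [CommRing R] [IsDomain R]
    [CommRing L] [Algebra R L] [IsFractionRing R L] (ψ : A →+* R)
    (hinj : Function.Injective ψ) (hdvd : ∀ r : R, r ≠ 0 → ∃ a : A, a ≠ 0 ∧ r ∣ ψ a) :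
    IsLocalization ((nonZeroDivisors A).map ψ) L := by
  refine (IsLocalization.iff_of_le_of_exists_dvd (M := (nonZeroDivisors A).map ψ) (S := L)
    (nonZeroDivisors R) ?_ ?_).2 inferInstance
  · rintro _ ⟨a, ha, rfl⟩
    exact mem_nonZeroDivisors_of_ne_zero fun h => nonZeroDivisors.ne_zero ha (hinj (h.trans (map_zero ψ).symm))
  · intro r hr
    obtain ⟨a, ha, hd⟩ := hdvd r (nonZeroDivisors.ne_zero hr)
    exact ⟨ψ a, ⟨a, mem_nonZeroDivisors_of_ne_zero ha, rfl⟩, hd⟩

/-- The strict henselization of a discrete valuation ring. -/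
theorem strictHens_dvr (A : Type u) [CommRing A] [IsDomain A] [IsDiscreteValuationRing A] :
    ∃ _ : IsDomain (GrothLib.Hensel.StrictHens A), IsDiscreteValuationRing (GrothLib.Hensel.StrictHens A) ∧
      Function.Injective (algebraMap A (GrothLib.Hensel.StrictHens A)) ∧
      ∀ r : GrothLib.Hensel.StrictHens A, r ≠ 0 → ∃ a : A, a ≠ 0 ∧ r ∣ algebraMap A _ a := by
  let R := GrothLib.Hensel.StrictHens A
  haveI : IsNoetherianRing R := (GrothLib.Hensel.IsStrictHenselization.isNoetherianRing_iff (R := A) (S := R)).1 inferInstance
  haveI := (GrothLib.Hensel.IsStrictHenselization.isRegularLocalRing_iff (R := A) (S := R)).1 inferInstance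
  haveI : IsDomain R := GrothLib.CMFree.isDomain_of_isRegularLocalRing R
  haveI := GrothLib.Hensel.IsStrictHenselization.faithfullyFlat (R := A) (S := R)
  have hinj : Function.Injective (algebraMap A R) := FaithfulSMul.algebraMap_injective A R
  obtain ⟨t, ht⟩ := IsDiscreteValuationRing.exists_irreducible A
  have hm : maximalIdeal R = Ideal.span {algebraMap A R t} := by
    rw [← GrothLib.Hensel.IsStrictHenselization.map_maximalIdeal (R := A) (S := R), ht.maximalIdeal_eq,
      Ideal.map_span, Set.image_singleton]
  have ht0 : algebraMap A R t ≠ 0 := fun h => ht.ne_zero (hinj (h.trans (map_zero _).symm))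
  have hnf : ¬ IsField R := fun hf => by
    have h0 := (IsLocalRing.isField_iff_maximalIdeal_eq.1 hf)
    rw [hm, Ideal.span_singleton_eq_bot] at h0
    exact ht0 h0
  haveI hD : IsDiscreteValuationRing R := ((IsDiscreteValuationRing.TFAE R hnf).out 0 4 rfl rfl).2 (by
    rw [hm]
    exact ⟨⟨algebraMap A R t, rfl⟩⟩)
  refine ⟨inferInstance, hD, hinj, fun r hr => ?_⟩
  have hirr : Irreducible (algebraMap A R t) := (IsDiscreteValuationRing.irreducible_iff_uniformizer _).2 hm
  obtain ⟨k, hk⟩ := IsDiscreteValuationRing.associated_pow_irreducible hr hirr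
  exact ⟨t ^ k, pow_ne_zero k ht.ne_zero, by rw [map_pow]; exact hk.dvd⟩

/-- The strict henselization of a field. -/
theorem strictHens_field (A : Type u) [CommRing A] [IsLocalRing A] (hA : IsField A) :
    IsField (GrothLib.Hensel.StrictHens A) := by
  rw [IsLocalRing.isField_iff_maximalIdeal_eq,
    ← GrothLib.Hensel.IsStrictHenselization.map_maximalIdeal (R := A) (S := GrothLib.Hensel.StrictHens A),
    IsLocalRing.isField_iff_maximalIdeal_eq.1 hA, Ideal.map_bot]

theorem geomPt_default {S : Scheme.{u}} (x : S) (R : Type u) [CommRing R] [IsLocalRing R]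
    [Algebra (S.presheaf.stalk x : Type u) R] [IsLocalHom (algebraMap (S.presheaf.stalk x : Type u) R)] :
    (Hens2.geomPt S x R).base (default : Spec (CommRingCat.of (ResidueField R))) = x := by
  have h1 : (default : Spec (CommRingCat.of (ResidueField R))) = closedPoint (ResidueField R) := Subsingleton.elim _ _
  haveI : IsLocalHom (CommRingCat.ofHom (residue R)).hom := (inferInstance : IsLocalHom (residue R))
  haveI : IsLocalHom (CommRingCat.ofHom (algebraMap (S.presheaf.stalk x : Type u) R)).hom := ‹IsLocalHom (algebraMap (S.presheaf.stalk x : Type u) R)›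
  rw [h1, Scheme.Hom.comp_apply, Scheme.Hom.comp_apply, Spec_closedPoint, Spec_closedPoint]
  exact Scheme.fromSpecStalk_closedPoint

variable {X : Scheme.{u}} [IsIntegral X]

/-- The map from a local ring to the residue field of the generic point. -/
def toGen (x : X) : (X.presheaf.stalk x : Type u) →+* (X.residueField (genericPoint X) : Type u) :=
  (X.presheaf.stalkSpecializes ((genericPoint_spec X).specializes trivial) ≫ X.residue (genericPoint X)).hom

theorem isFractionRing_toGen (x : X) :
    letI := (toGen x).toAlgebra
    IsFractionRing (X.presheaf.stalk x : Type u) (X.residueField (genericPoint X) : Type u) := by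
  letI := (toGen x).toAlgebra
  have hb : Function.Bijective (X.residue (genericPoint X)).hom := by
    refine ⟨?_, X.residue_surjective _⟩
    exact RingHom.injective ((X.residue (genericPoint X)).hom : (X.functionField : Type u) →+* (X.residueField (genericPoint X) : Type u))
  let e : (X.functionField : Type u) ≃ₐ[(X.presheaf.stalk x : Type u)] (X.residueField (genericPoint X) : Type u) :=
    AlgEquiv.ofRingEquiv (f := RingEquiv.ofBijective _ hb) (fun a => rfl)
  exact IsLocalization.isLocalization_of_algEquiv (nonZeroDivisors _) e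

theorem fromSpecResidueField_generic (x : X) :
    Spec.map (CommRingCat.ofHom (toGen x)) ≫ X.fromSpecStalk x = X.fromSpecResidueField (genericPoint X) := by
  change Spec.map (X.presheaf.stalkSpecializes _ ≫ X.residue (genericPoint X)) ≫ X.fromSpecStalk x = _
  rw [Spec.map_comp, Category.assoc, Scheme.SpecMap_stalkSpecializes_fromSpecStalk]
  rfl

/-- The stalks of higher direct images from the generic point vanish with the cohomology of the fraction
field of the strict henselization. -/
theorem isZero_stalk_Rpush [QuasiCompact (X.fromSpecResidueField (genericPoint X))]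
    [QuasiSeparated (X.fromSpecResidueField (genericPoint X))] (x : X)
    (R : Type u) [CommRing R] [IsDomain R] [IsLocalRing R] [Algebra (X.presheaf.stalk x : Type u) R]
    [IsLocalHom (algebraMap (X.presheaf.stalk x : Type u) R)]
    [Hensel.IsStrictHenselization (X.presheaf.stalk x : Type u) R] [IsSepClosed (ResidueField R)]
    (L : Type u) [Field L] [Algebra R L] [IsFractionRing R L]
    (hinj : Function.Injective (algebraMap (X.presheaf.stalk x : Type u) R))
    (hdvd : ∀ r : R, r ≠ 0 → ∃ a : (X.presheaf.stalk x : Type u), a ≠ 0 ∧ r ∣ algebraMap _ _ a)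
    (N n : ℕ) (hvan : ∀ G : EtCoh.Ab (Spec (CommRingCat.of L)), N • 𝟙 G = 0 → Subsingleton (EtCoh.H _ G n))
    (G : EtCoh.Ab (Spec (X.residueField (genericPoint X)))) (hG : N • 𝟙 G = 0)
    {Ω : Type u} [Field Ω] [IsSepClosed Ω] (ξ : Spec (CommRingCat.of Ω) ⟶ X)
    (hξ : ξ.base (default : Spec (CommRingCat.of Ω)) = x) :
    IsZero ((EtCoh.stalk ξ).obj ((EtCoh.Rpush (X.fromSpecResidueField (genericPoint X)) n).obj G)) := by
  haveI hL := isLocalization_map_of_dvd (L := L) (algebraMap (X.presheaf.stalk x : Type u) R) hinj hdvd
  letI := (toGen x).toAlgebra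
  haveI := isFractionRing_toGen x
  have hgi : Function.Injective ((algebraMap R L).comp (algebraMap (X.presheaf.stalk x : Type u) R)) :=
    (IsFractionRing.injective R L).comp hinj
  let fm : (X.residueField (genericPoint X) : Type u) →+* L :=
    IsFractionRing.lift (A := (X.presheaf.stalk x : Type u)) hgi
  have hfm : fm.comp (algebraMap (X.presheaf.stalk x : Type u) (X.residueField (genericPoint X) : Type u)) =
      (algebraMap R L).comp (algebraMap (X.presheaf.stalk x : Type u) R) :=
    RingHom.ext fun a => IsFractionRing.lift_algebraMap hgi a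
  have hpo := CommRingCat.isPushout_of_isLocalization (algebraMap (X.presheaf.stalk x : Type u) R) fm hfm
    (nonZeroDivisors (X.presheaf.stalk x : Type u))
  have hpb : IsPullback (Spec.map (CommRingCat.ofHom (algebraMap R L))) (Spec.map (CommRingCat.ofHom fm))
      (Hens2.specOf X x R) (X.fromSpecResidueField (genericPoint X)) := by
    rw [← fromSpecResidueField_generic x]
    exact isPullback_comp_mono (isPullback_SpecMap_of_isPushout _ _ _ _ hpo) (X.fromSpecStalk x)
  obtain ⟨P, e, he⟩ := GrothLib.EtLimit.exists_proNbhd_hens X x R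
  have hP : IsPullback (Spec.map (CommRingCat.ofHom (algebraMap R L)) ≫ e.hom) (Spec.map (CommRingCat.ofHom fm))
      P.bc (X.fromSpecResidueField (genericPoint X)) :=
    hpb.of_iso (Iso.refl _) e (Iso.refl _) (Iso.refl _) (by simp) (by simp) (by simp [he]) (by simp)
  obtain ⟨θ⟩ := GrothLib.EtLimit.nonempty_stalk_Rpush_iso hP n
  haveI := GrothLib.EtSite.pull_preservesFiniteLimits (Spec.map (CommRingCat.ofHom fm))
  haveI : (EtCoh.pull (Spec.map (CommRingCat.ofHom fm))).Additive := (EtCoh.pullPushAdj _).left_adjoint_additive
  haveI := hvan ((EtCoh.pull (Spec.map (CommRingCat.ofHom fm))).obj G)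
    (by rw [← CategoryTheory.Functor.map_id, ← Functor.map_nsmul, hG, Functor.map_zero])
  haveI : Subsingleton ((EtCoh.pull (Spec.map (CommRingCat.ofHom fm)) ⋙ EtCoh.HF (Spec (CommRingCat.of L)) n).obj G) := by
    assumption
  refine GrothLib.ConstrCpt.isZero_stalk_of_same ξ (Hens2.geomPt X x R) ?_
    (IsZero.of_iso (AddCommGrpCat.isZero_of_subsingleton _) (θ.app G))
  rw [hξ]
  exact geomPt_default x R

end GrothLib.HLoc18
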