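import Groth.Agent.Lib.HLoc18.Main
import Groth.Agent.Lib.Olivier.Main
import Mathlib.RingTheory.DedekindDomain.IntegralClosure
import Mathlib.RingTheory.DiscreteValuationRing.TFAE
import Mathlib.AlgebraicGeometry.Noetherian

/-!
# Punctured spectra of two-dimensional normal local domains
-/

set_option autoImplicit false
set_option backward.isDefEq.respectTransparency false
set_option backward.isDefEq.respectTransparency.types false
set_option linter.style.haveILetI false
set_option linter.all false

universe u

open CategoryTheory CategoryTheory.Limits AlgebraicGeometry IsLocalRing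

noncomputable section

namespace GrothLib.HLoc18

/-- Cohomological dimension is invariant under isomorphisms. -/
theorem cohDimLE_of_iso {Y Z : Scheme.{u}} (f : Y ⟶ Z) [IsIso f] {d : ℕ} (h : EtCoh.CohDimLE Y d) :
    EtCoh.CohDimLE Z d := by
  intro F hF q hq
  haveI := GrothLib.EtDer.pullFL f
  have hvan : ∀ V : Z.Etale, Disjoint (Set.range V.hom.base) (Set.range f.base) →
      Subsingleton (EtCoh.sect F V) := by
    intro V hV
    haveI : IsEmpty V.left := ⟨fun v => Set.disjoint_left.1 hV ⟨v, rfl⟩
      ((f.homeomorph.surjective (V.hom.base v)))⟩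
    exact GrothLib.EtSite.subsingleton_sect_of_isEmpty F V
  haveI : IsIso ((EtCoh.pullPushAdj f).unit.app F) := GrothLib.EtSite.isIso_unit_of_vanish f F hvan
  haveI := h _ (GrothLib.CdBr2.isTorsion_pull f hF) q hq
  refine ⟨fun a b => (GrothLib.EtDer.bijective_comp_mk₀ (asIso ((EtCoh.pullPushAdj f).unit.app F)) q).1 ?_⟩
  exact (Groth.Agent.S14451.result f _ (fun r hr => GrothLib.EtSite.isZero_Rpush_of_integral f _ r hr) q).1
    (Subsingleton.elim _ _)

variable {A : Type u} [CommRing A] [IsDomain A]

/-- The strict chain bound in dimension two. -/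
theorem eq_bot_or_maximal_of_lt (hdim : ringKrullDim A ≤ 2) {q p : Ideal A} [q.IsPrime] [p.IsPrime]
    (hqp : q < p) : q = ⊥ ∨ p.IsMaximal := by
  by_contra hcon
  push Not at hcon
  obtain ⟨hq, hp⟩ := hcon
  obtain ⟨m, hm, hpm⟩ := Ideal.exists_le_maximal p (Ideal.IsPrime.ne_top ‹p.IsPrime›)
  have hpm' : p < m := hpm.lt_of_ne fun e => hp (e ▸ hm)
  let s : LTSeries (PrimeSpectrum A) := RelSeries.fromListIsChain
    [⟨⊥, Ideal.isPrime_bot⟩, ⟨q, inferInstance⟩, ⟨p, inferInstance⟩, ⟨m, hm.isPrime⟩] (by simp) (by
      refine List.IsChain.cons_cons ?_ (List.IsChain.cons_cons ?_ (List.IsChain.cons_cons ?_ (List.IsChain.singleton _)))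
      · exact (bot_lt_iff_ne_bot.2 hq : (⊥ : Ideal A) < q)
      · exact hqp
      · exact hpm')
  have h := Order.LTSeries.length_le_krullDim s
  have h3 : s.length = 3 := by simp [s]
  rw [h3] at h
  have h4 : ((3 : ℕ) : WithBot ℕ∞) ≤ ((2 : ℕ) : WithBot ℕ∞) := by exact_mod_cast h.trans hdim
  exact absurd (Nat.cast_le.1 h4) (by omega)

variable (U : (Spec (CommRingCat.of A)).Opens)

theorem exists_data [IsNoetherianRing A] [IsIntegrallyClosed A] [CharZero A] (hdim : ringKrullDim A ≤ 2)
    (hunits : ∀ N : ℕ, N ≠ 0 → IsUnit (N : A))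
    (hU : ∀ x : ↥(Spec (CommRingCat.of A)), x ∈ U → ¬ IsClosed ({x} : Set ↥(Spec (CommRingCat.of A))))
    (hne : Nonempty ↥(↑U : Scheme.{u})) (K : Type u) [Field K] [Algebra A K] [IsFractionRing A K] :
    ∃ (_ : IsIntegral (↑U : Scheme.{u})) (_ : AlgebraicGeometry.IsNoetherian (↑U : Scheme.{u})),
      (∀ x : ↥(↑U : Scheme.{u}), x ≠ genericPoint (↑U : Scheme.{u}) →
        IsDiscreteValuationRing ((↑U : Scheme.{u}).presheaf.stalk x : Type u) ∧
          IsClosed ({x} : Set ↥(↑U : Scheme.{u}))) ∧
      (∀ (N : ℕ), N ≠ 0 → ∀ x : ↥(↑U : Scheme.{u}),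
        IsUnit ((N : ℕ) : ((↑U : Scheme.{u}).presheaf.stalk x : Type u))) ∧
      Nonempty (K ≃+* ((↑U : Scheme.{u}).residueField (genericPoint (↑U : Scheme.{u})) : Type u)) := by
  haveI : IsIntegral (Spec (CommRingCat.of A)) := inferInstance
  haveI : Nonempty ↥U.toScheme := hne
  haveI hint : IsIntegral U.toScheme := isIntegral_of_isOpenImmersion U.ι
  haveI : IsLocallyNoetherian U.toScheme := isLocallyNoetherian_of_isOpenImmersion U.ι
  haveI : CompactSpace U.toScheme := isCompact_iff_compactSpace.1 (TopologicalSpace.NoetherianSpace.isCompact _)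
  haveI hN : AlgebraicGeometry.IsNoetherian U.toScheme := {}
  have hgen : (U.ι.base (genericPoint U.toScheme)).asIdeal = (⊥ : Ideal A) := by
    rw [genericPoint_eq_of_isOpenImmersion U.ι, genericPoint_eq_bot_of_affine]
    rfl
  have hmem : ∀ x : U.toScheme, U.ι.base x ∈ U := fun x => by
    have : U.ι.base x ∈ Set.range U.ι.base := ⟨x, rfl⟩
    rwa [Scheme.Opens.range_ι] at this
  refine ⟨hint, hN, fun x hx => ?_, fun N hN0 x => ?_, ?_⟩
  · set y : ↥(Spec (CommRingCat.of A)) := U.ι.base x with hy
    have hp0 : y.asIdeal ≠ ⊥ := fun h0 => hx (U.ι.isOpenEmbedding.injective (PrimeSpectrum.ext (h0.trans hgen.symm)))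
    have hnm : ¬ y.asIdeal.IsMaximal := fun h => hU y (hmem x) ((PrimeSpectrum.isClosed_singleton_iff_isMaximal _).2 h)
    refine ⟨?_, ?_⟩
    · letI : Algebra A ((Spec (CommRingCat.of A)).presheaf.stalk y : Type u) :=
        AlgebraicGeometry.StructureSheaf.stalkAlgebra A y
      let L := Localization.AtPrime y.asIdeal
      haveI : IsNoetherianRing L := IsLocalization.isNoetherianRing y.asIdeal.primeCompl L inferInstance
      haveI : IsDomain L := IsLocalization.isDomain_localization y.asIdeal.primeCompl_le_nonZeroDivisors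
      haveI : IsIntegrallyClosed L := isIntegrallyClosed_of_isLocalization L y.asIdeal.primeCompl
        y.asIdeal.primeCompl_le_nonZeroDivisors
      haveI : Ring.DimensionLEOne L := ⟨fun {P} hP0 hP => by
        have hd : Disjoint (y.asIdeal.primeCompl : Set A) (P.comap (algebraMap A L) : Set A) :=
          ((IsLocalization.isPrime_iff_isPrime_disjoint y.asIdeal.primeCompl L P).1 hP).2
        have hle : P.comap (algebraMap A L) ≤ y.asIdeal := fun a ha => by
          by_contra h
          exact Set.disjoint_left.1 hd h ha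
        rcases hle.lt_or_eq with hlt | heq
        · haveI := Ideal.IsPrime.comap (algebraMap A L) (hK := hP)
          rcases eq_bot_or_maximal_of_lt hdim hlt with h0 | hmax
          · exfalso
            apply hP0
            rw [← IsLocalization.map_comap y.asIdeal.primeCompl L P]
            change Ideal.map _ (P.comap (algebraMap A L)) = ⊥
            rw [h0, Ideal.map_bot]
          · exact absurd hmax hnm
        · rw [← IsLocalization.map_comap y.asIdeal.primeCompl L P]
          change (Ideal.map _ (P.comap (algebraMap A L))).IsMaximal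
          rw [heq, Localization.AtPrime.map_eq_maximalIdeal]
          infer_instance⟩
      haveI : IsDedekindDomain L := {}
      have hnf : ¬ IsField L := fun hf => by
        have h0 := IsLocalRing.isField_iff_maximalIdeal_eq.1 hf
        rw [← Localization.AtPrime.map_eq_maximalIdeal,
          Ideal.map_eq_bot_iff_of_injective (IsLocalization.injective L y.asIdeal.primeCompl_le_nonZeroDivisors)] at h0
        exact hp0 h0
      haveI : IsDiscreteValuationRing L := ((IsDiscreteValuationRing.TFAE L hnf).out 0 2 rfl rfl).2 ‹_›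
      let e₁ := (AlgebraicGeometry.StructureSheaf.stalkIso A y).toRingEquiv
      let e₂ : ((Spec (CommRingCat.of A)).presheaf.stalk y : Type u) ≃+* (U.toScheme.presheaf.stalk x : Type u) :=
        (U.stalkIso x).symm.commRingCatIsoToRingEquiv
      exact IsDiscreteValuationRing.RingEquivClass.isDiscreteValuationRing (e₁.trans e₂)
    · refine closure_subset_iff_isClosed.1 fun z hz => ?_
      have hxz : x ⤳ z := specializes_iff_mem_closure.2 hz
      have hle : y.asIdeal ≤ (U.ι.base z).asIdeal :=
        (PrimeSpectrum.le_iff_specializes y (U.ι.base z)).2 (hxz.map U.ι.continuous)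
      rcases hle.lt_or_eq with hlt | heq
      · rcases eq_bot_or_maximal_of_lt hdim hlt with h0 | hmax
        · exact absurd h0 hp0
        · exact absurd ((PrimeSpectrum.isClosed_singleton_iff_isMaximal _).2 hmax) (hU _ (hmem z))
      · exact U.ι.isOpenEmbedding.injective (PrimeSpectrum.ext heq.symm)
  ·
    have h2 := ((hunits N hN0).map (Scheme.ΓSpecIso (CommRingCat.of A)).inv.hom).map
      ((Spec (CommRingCat.of A)).presheaf.germ ⊤ (U.ι.base x) trivial ≫ U.ι.stalkMap x).hom
    rwa [map_natCast, map_natCast] at h2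
  · set y : ↥(Spec (CommRingCat.of A)) := U.ι.base (genericPoint U.toScheme) with hy
    letI : Algebra A ((Spec (CommRingCat.of A)).presheaf.stalk y : Type u) :=
      AlgebraicGeometry.StructureSheaf.stalkAlgebra A y
    let L := Localization.AtPrime y.asIdeal
    haveI : IsFractionRing A L := by
      have h : y.asIdeal.primeCompl = nonZeroDivisors A := by
        ext a
        rw [mem_nonZeroDivisors_iff_ne_zero]
        change a ∉ y.asIdeal ↔ _
        rw [hgen, Ideal.mem_bot]
      change IsLocalization (nonZeroDivisors A) L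
      rw [← h]
      infer_instance
    let e₀ : K ≃+* L := (IsLocalization.algEquiv (nonZeroDivisors A) K L).toRingEquiv
    let e₁ := (AlgebraicGeometry.StructureSheaf.stalkIso A y).toRingEquiv
    let e₂ : ((Spec (CommRingCat.of A)).presheaf.stalk y : Type u) ≃+* (U.toScheme.presheaf.stalk (genericPoint U.toScheme) : Type u) :=
      (U.stalkIso (genericPoint U.toScheme)).symm.commRingCatIsoToRingEquiv
    let e₃ := RingEquiv.ofBijective (U.toScheme.residue (genericPoint U.toScheme)).hom
      ⟨RingHom.injective ((U.toScheme.residue (genericPoint U.toScheme)).hom : (U.toScheme.functionField : Type u) →+* _),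
        U.toScheme.residue_surjective _⟩
    exact ⟨((e₀.trans e₁).trans e₂).trans e₃⟩

/-- A space all whose points other than the generic one are closed has dimension at most one. -/
theorem dim_le_one {X : Scheme.{u}} [IsIntegral X]
    (h : ∀ x : X, x ≠ genericPoint X → IsClosed ({x} : Set X)) : topologicalKrullDim X ≤ 1 := by
  refine Order.krullDim_le_one_iff.2 fun Z => ?_
  obtain ⟨g, hg⟩ := QuasiSober.sober Z.isIrreducible Z.isClosed
  have hg' : closure ({g} : Set X) = (Z : Set X) := hg.def
  by_cases he : g = genericPoint X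
  · refine Or.inr fun W _ => ?_
    have hZ : (Z : Set X) = Set.univ := by rw [← hg', he]; exact (genericPoint_spec X).def
    exact fun x _ => SetLike.mem_coe.1 (by rw [hZ]; trivial)
  · refine Or.inl fun W hW => ?_
    rw [(h g he).closure_eq] at hg'
    intro x hx
    obtain ⟨w, hw⟩ := W.isIrreducible.nonempty
    have hwg : w = g := by
      have := hW hw
      rw [← SetLike.mem_coe, ← hg'] at this
      exact this
    rw [← SetLike.mem_coe, ← hg', Set.mem_singleton_iff] at hx
    rw [hx, ← hwg]
    exact hw

theorem isTorsion_of_primary {X : Scheme.{u}} {ℓ : ℕ} (hℓ : ℓ.Prime) {F : EtCoh.Ab X}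
    (hF : Dix.IsPrimaryTorsion ℓ F) : EtCoh.IsTorsion F := fun U s x => by
  obtain ⟨V, g, hv, k, hk⟩ := hF U s x
  exact ⟨V, g, hv, isOfFinAddOrder_iff_nsmul_eq_zero.2 ⟨ℓ ^ k, pow_pos hℓ.pos k, hk⟩⟩

end GrothLib.HLoc18
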