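import Groth.Agent.Lib.HLoc18.Pts
import Groth.Agent.Lib.HLoc18.Fibre
import Groth.Agent.Lib.CdBr2.Curve
import Groth.Agent.Lib.CdBr2.Torsion
import Groth.Agent.S14451

/-!
# Vanishing above degree three on curves over whose generic point the cohomological dimension is two
-/

set_option autoImplicit false
set_option backward.isDefEq.respectTransparency false
set_option backward.isDefEq.respectTransparency.types false
set_option linter.style.haveILetI false
set_option linter.all false

universe u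

open CategoryTheory CategoryTheory.Limits CategoryTheory.Abelian AlgebraicGeometry Opposite IsLocalRing
open GrothLib.EtSite GrothLib.EtTrace21 GrothLib.GalCd GrothLib.EtColim GrothLib.HomGamma

noncomputable section

namespace GrothLib.HLoc18

variable {X : Scheme.{u}} [IsIntegral X] [AlgebraicGeometry.IsNoetherian X]

theorem generic_max (y : X) (h : y ⤳ genericPoint X) : y = genericPoint X :=
  (h.antisymm ((genericPoint_spec X).specializes trivial)).eq

/-- At the generic point the higher direct images vanish. -/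
theorem isZero_Rpush_generic {N : ℕ} (n : ℕ) (hn : 1 ≤ n)
    (G : EtCoh.Ab (Spec (X.residueField (genericPoint X)))) (hG : N • 𝟙 G = 0)
    {Ω : Type u} [Field Ω] [IsSepClosed Ω] (ξ : Spec (CommRingCat.of Ω) ⟶ X)
    (hξ : ξ.base (default : Spec (CommRingCat.of Ω)) = genericPoint X) :
    IsZero ((EtCoh.stalk ξ).obj ((EtCoh.Rpush (X.fromSpecResidueField (genericPoint X)) n).obj G)) := by
  have hA : IsField (X.presheaf.stalk (genericPoint X) : Type u) := Field.toIsField X.functionField
  let R := GrothLib.Hensel.StrictHens (X.presheaf.stalk (genericPoint X) : Type u)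
  have hR : IsField R := strictHens_field _ hA
  haveI : IsDomain R := hR.isDomain
  haveI : IsSepClosed (ResidueField R) :=
    (inferInstance : _root_.Hensel.IsStrictHenselization (X.presheaf.stalk (genericPoint X) : Type u) R).isSepClosure.sep_closed
  haveI := GrothLib.Hensel.IsStrictHenselization.faithfullyFlat (R := (X.presheaf.stalk (genericPoint X) : Type u)) (S := R)
  letI : Field R := hR.toField
  refine isZero_stalk_Rpush (genericPoint X) R R (FaithfulSMul.algebraMap_injective _ _)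
    (fun r hr => ⟨1, one_ne_zero, (isUnit_iff_ne_zero.2 hr).dvd⟩) N n (fun H _ => ?_) G hG ξ hξ
  exact GrothLib.EtBasicB.subsingleton_H_finite R _ (𝟙 _) H n hn

variable (hdvr : ∀ x : X, x ≠ genericPoint X →
  IsDiscreteValuationRing (X.presheaf.stalk x : Type u) ∧ IsClosed ({x} : Set X))

include hdvr in
/-- Above degree one the higher direct images vanish. -/
theorem isZero_Rpush_two {N : ℕ} (hN0 : N ≠ 0) (hN : ∀ x : X, IsUnit ((N : ℕ) : (X.presheaf.stalk x : Type u)))
    (n : ℕ) (hn : 2 ≤ n) (G : EtCoh.Ab (Spec (X.residueField (genericPoint X)))) (hG : N • 𝟙 G = 0) :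
    IsZero ((EtCoh.Rpush (X.fromSpecResidueField (genericPoint X)) n).obj G) := by
  refine (IsZero.iff_id_eq_zero _).2 (GrothLib.ExtZero.zero_of_stalks _ fun Ω _ _ ξ => ?_)
  refine IsZero.eq_of_src ?_ _ _
  by_cases hξ : ξ.base (default : Spec (CommRingCat.of Ω)) = genericPoint X
  · exact isZero_Rpush_generic n (by omega) G hG ξ hξ
  · let x : X := ξ.base (default : Spec (CommRingCat.of Ω))
    haveI : IsDiscreteValuationRing (X.presheaf.stalk x : Type u) := (hdvr x hξ).1
    obtain ⟨_, hD, hinj, hdvd⟩ := strictHens_dvr (X.presheaf.stalk x : Type u)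
    let R := GrothLib.Hensel.StrictHens (X.presheaf.stalk x : Type u)
    haveI : IsDiscreteValuationRing R := hD
    haveI : IsSepClosed (ResidueField R) :=
      (inferInstance : _root_.Hensel.IsStrictHenselization (X.presheaf.stalk x : Type u) R).isSepClosure.sep_closed
    have hu : IsUnit (N : R) := by
      have := (hN x).map (algebraMap (X.presheaf.stalk x : Type u) R)
      rwa [map_natCast] at this
    exact isZero_stalk_Rpush x R (FractionRing R) hinj hdvd N n
      (fun H hH => GrothLib.ShDvrCd18.subsingleton_H R (FractionRing R) N hN0 hu H hH n hn) G hG ξ rfl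

variable (hκ : ∀ v : X, IsClosed ({v} : Set X) → EtCoh.CohDimLE (Spec (X.residueField v)) 1)
  (hK : EtCoh.CohDimLE (Spec (X.residueField (genericPoint X))) 2)

include hdvr hκ hK in
/-- `H^q`, `q ≥ 4`, of the direct image of a killed sheaf from the generic point vanishes. -/
theorem H_push_eq_zero {N : ℕ} (hN0 : N ≠ 0) (hN : ∀ x : X, IsUnit ((N : ℕ) : (X.presheaf.stalk x : Type u)))
    (G : EtCoh.Ab (Spec (X.residueField (genericPoint X)))) (hG : N • 𝟙 G = 0) (q : ℕ)
    (a : EtCoh.H X ((EtCoh.push (X.fromSpecResidueField (genericPoint X))).obj G) (q + 4)) : a = 0 := by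
  let f := X.fromSpecResidueField (genericPoint X)
  let k : Type u := (X.residueField (genericPoint X) : Type u)
  haveI := GrothLib.EtDer.pullFL f
  haveI : PreservesFiniteLimits (EtCoh.push f) :=
    ((EtCoh.pullPushAdj f).rightAdjoint_preservesLimits : PreservesLimitsOfSize.{0, 0} _).preservesFiniteLimits
  haveI : (EtCoh.push f).Additive := Functor.additive_of_preserves_binary_products _
  let S := injS G
  have hS := injS_shortExact G
  haveI : Injective S.X₂ := inferInstanceAs (Injective (Injective.under G))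
  let S' := injS S.X₃
  have hS' := injS_shortExact S.X₃
  haveI : Injective S'.X₂ := inferInstanceAs (Injective (Injective.under S.X₃))
  -- cohomology of the second syzygy
  have hpush : ∀ (K : Type u) [Field K] [Algebra k K] [Algebra.IsSeparable k K]
      (H : EtCoh.Ab (Spec (CommRingCat.of K))), N • 𝟙 H = 0 → ∀ r : ℕ, 3 ≤ r →
      ∀ y : EtCoh.H (Spec (CommRingCat.of K)) H r, y = 0 := by
    intro K _ _ _ H hH r hr y
    let g := specMap k K
    haveI : IsIntegralHom g :=
      IsIntegralHom.SpecMap_iff.2 fun a => (Algebra.IsAlgebraic.isAlgebraic (R := k) a).isIntegral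
    haveI := GrothLib.EtDer.pullFL g
    haveI : PreservesFiniteLimits (EtCoh.push g) :=
      ((EtCoh.pullPushAdj g).rightAdjoint_preservesLimits : PreservesLimitsOfSize.{0, 0} _).preservesFiniteLimits
    haveI : (EtCoh.push g).Additive := Functor.additive_of_preserves_binary_products _
    obtain ⟨z, rfl⟩ :=
      (Groth.Agent.S14451.result g H (fun i hi => GrothLib.EtSite.isZero_Rpush_of_integral g H i hi) r).2 y
    haveI := hK _ (isTorsion_of_killed hN0 (killed_map (EtCoh.push g) hH)) r (by omega)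
    rw [Subsingleton.elim z 0, map_zero]
  have hC : ∀ r : ℕ, 0 < r → IsZero ((EtCoh.Rpush f r).obj S'.X₃) := by
    intro r hr
    obtain ⟨r', rfl⟩ : ∃ r', r = r' + 1 := ⟨r - 1, by omega⟩
    refine GrothLib.CdBr2.isZero_Rpush_of_fields (k := k) f r' _ fun K _ _ _ _ _ _ i hi => ⟨fun c₁ c₂ => ?_⟩
    let j := specMap k K
    haveI := GrothLib.EtDer.pullFL j
    haveI : PreservesFiniteLimits (EtShriek.restrAlong j) :=
      preservesFiniteLimits_of_natIso (GrothLib.ExtZero.restrIsoPull j).symm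
    haveI : PreservesFiniteColimits (EtShriek.restrAlong j) :=
      preservesFiniteColimits_of_natIso (GrothLib.ExtZero.restrIsoPull j).symm
    haveI : (EtShriek.restrAlong j).Additive := Functor.additive_of_preserves_binary_products _
    haveI := GrothLib.ExtZero.preservesFiniteLimits_extZero j
    haveI : (EtShriek.extZero j).PreservesMonomorphisms := preservesMonomorphisms_of_preservesLimitsOfShape _
    have hT : (S.map (EtShriek.restrAlong j)).ShortExact := hS.map_of_exact _
    have hT' : (S'.map (EtShriek.restrAlong j)).ShortExact := hS'.map_of_exact _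
    haveI : Injective (S.map (EtShriek.restrAlong j)).X₂ := Injective.injective_of_adjoint (EtShriek.extZeroAdj j) S.X₂
    haveI : Injective (S'.map (EtShriek.restrAlong j)).X₂ := Injective.injective_of_adjoint (EtShriek.extZeroAdj j) S'.X₂
    suffices hz : ∀ c : EtCoh.H _ ((EtShriek.restrAlong j).obj S'.X₃) i, c = 0 from (hz c₁).trans (hz c₂).symm
    intro c
    obtain ⟨s, rfl⟩ : ∃ s, i = s + 1 := ⟨i - 1, by omega⟩
    have hX3 : ∀ d : EtCoh.H _ ((EtShriek.restrAlong j).obj S.X₃) (s + 1 + 1), d = 0 := fun d => by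
      obtain ⟨y, hy⟩ := Ext.covariant_sequence_exact₃ _ hT d rfl
        (hpush K _ (killed_map (EtShriek.restrAlong j) hG) (s + 1 + 1 + 1) (by omega) _)
      rw [← hy, Ext.eq_zero_of_injective y, Ext.zero_comp]
    obtain ⟨y, hy⟩ := Ext.covariant_sequence_exact₃ _ hT' c rfl (hX3 _)
    rw [← hy, Ext.eq_zero_of_injective y, Ext.zero_comp]
  have hKX3 : ∀ r : ℕ, 2 ≤ r → ∀ z : EtCoh.H (Spec (X.residueField (genericPoint X))) S.X₃ r, z = 0 := by
    intro r hr z
    obtain ⟨r', rfl⟩ : ∃ r', r = r' + 1 := ⟨r - 1, by omega⟩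
    haveI := hK G (isTorsion_of_killed hN0 hG) (r' + 1 + 1) (by omega)
    obtain ⟨y, hy⟩ := Ext.covariant_sequence_exact₃ _ hS z rfl (Subsingleton.elim _ _)
    rw [← hy, Ext.eq_zero_of_injective y, Ext.zero_comp]
  have hKC : ∀ r : ℕ, 1 ≤ r → ∀ z : EtCoh.H (Spec (X.residueField (genericPoint X))) S'.X₃ r, z = 0 := by
    intro r hr z
    obtain ⟨r', rfl⟩ : ∃ r', r = r' + 1 := ⟨r - 1, by omega⟩
    obtain ⟨y, hy⟩ := Ext.covariant_sequence_exact₃ _ hS' z rfl (hKX3 (r' + 1 + 1) (by omega) _)
    rw [← hy, Ext.eq_zero_of_injective y, Ext.zero_comp]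
  haveI hI : Injective ((EtCoh.push f).obj S.X₂) := GrothLib.EtDer.injective_push f S.X₂
  haveI hI' : Injective ((EtCoh.push f).obj S'.X₂) := GrothLib.EtDer.injective_push f S'.X₂
  -- the direct image of the second sequence is exact
  have hR1 : IsZero ((EtCoh.Rpush f 1).obj S.X₃) :=
    IsZero.of_iso (isZero_Rpush_two hdvr hN0 hN 2 le_rfl G hG) (shiftIso hS (EtCoh.push f) 0).symm
  have hPS' : (S'.map (EtCoh.push f)).ShortExact := shortExact_map_of_isZero (EtCoh.push f) hS' hR1
  have hPX3 : ∀ r : ℕ, 2 ≤ r → ∀ z : EtCoh.H X ((EtCoh.push f).obj S.X₃) r, z = 0 := by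
    intro r hr z
    obtain ⟨r', rfl⟩ : ∃ r', r = r' + 1 := ⟨r - 1, by omega⟩
    obtain ⟨w, hw⟩ := Ext.covariant_sequence_exact₁ _ hPS' z
      (@Ext.eq_zero_of_injective _ _ _ _ _ _ _ (inferInstanceAs (Injective ((EtCoh.push f).obj S'.X₂))) _) rfl
    have hw0 : w = 0 :=
      (Groth.Agent.S14451.result f S'.X₃ hC r').1 ((hKC r' (by omega) _).trans (hKC r' (by omega) _).symm)
    rw [← hw, hw0, Ext.zero_comp]
  -- the first sequence
  haveI : Mono ((EtCoh.push f).map S.f) := by
    haveI := hS.mono_f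
    exact (EtCoh.push f).map_mono S.f
  let m := (EtCoh.push f).map S.f
  let T := ShortComplex.mk m (cokernel.π m) (cokernel.condition m)
  have hT : T.ShortExact := { exact := T.exact_of_g_is_cokernel (cokernelIsCokernel _) }
  obtain ⟨c, rfl⟩ := Ext.covariant_sequence_exact₁ _ hT a
    (@Ext.eq_zero_of_injective _ _ _ _ _ _ _ (inferInstanceAs (Injective ((EtCoh.push f).obj S.X₂))) _) (rfl : q + 3 + 1 = q + 4)
  have hex := hS.exact.map_of_mono_of_preservesKernel (EtCoh.push f) hS.mono_f inferInstance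
  let b : T.X₃ ⟶ (EtCoh.push f).obj S.X₃ := cokernel.desc m ((EtCoh.push f).map S.g)
    (by rw [← Functor.map_comp, S.zero, Functor.map_zero])
  haveI : Mono b := hex.mono_cokernelDesc
  let U := ShortComplex.mk b (cokernel.π b) (cokernel.condition b)
  have hU : U.ShortExact := { exact := U.exact_of_g_is_cokernel (cokernelIsCokernel _) }
  let e : U.X₃ ≅ (EtCoh.Rpush f 1).obj G :=
    (cokernelEpiComp (cokernel.π m) b).symm ≪≫ cokernelIsoOfEq (cokernel.π_desc _ _ _) ≪≫
      (shiftIsoOne hS (EtCoh.push f)).symm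
  haveI : (EtCoh.Rpush f 1).Additive := inferInstanceAs (((EtCoh.push f).rightDerived 1).Additive)
  have hk : N • 𝟙 U.X₃ = 0 := killed_sub e.hom (killed_map (EtCoh.Rpush f 1) hG)
  have h0 : Ext.comp c (Ext.mk₀ U.f) (add_zero (q + 3)) = 0 := hPX3 (q + 3) (by omega) _
  obtain ⟨w, rfl⟩ := Ext.covariant_sequence_exact₁ _ hU c h0 (rfl : q + 2 + 1 = q + 3)
  have hsupp : ∀ (Ω : Type u) [Field Ω] [IsSepClosed Ω] (ξ : Spec (CommRingCat.of Ω) ⟶ X),
      ¬ IsClosed ({ξ.base (default : Spec (CommRingCat.of Ω))} : Set X) → IsZero ((EtCoh.stalk ξ).obj U.X₃) := by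
    intro Ω _ _ ξ hnc
    refine IsZero.of_iso ?_ ((EtCoh.stalk ξ).mapIso e)
    refine isZero_Rpush_generic 1 le_rfl G hG ξ ?_
    by_contra hne
    exact hnc (hdvr _ hne).2
  rw [H_eq_zero_of_supp_closedPts hκ hN0 _ hk hsupp (q + 2) (by omega) w, Ext.zero_comp, Ext.zero_comp]

include hdvr hκ hK in
/-- Killed sheaves have no cohomology above degree three. -/
theorem H_eq_zero_of_killed {N : ℕ} (hN0 : N ≠ 0) (hN : ∀ x : X, IsUnit ((N : ℕ) : (X.presheaf.stalk x : Type u)))
    (F : EtCoh.Ab X) (hF : N • 𝟙 F = 0) (r : ℕ) (hr : 4 ≤ r) (x : EtCoh.H X F r) : x = 0 := by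
  let f := X.fromSpecResidueField (genericPoint X)
  haveI := GrothLib.EtDer.pullFL f
  haveI : (EtCoh.pull f).Additive := Functor.additive_of_preserves_binary_products _
  haveI : PreservesFiniteLimits (EtCoh.push f) :=
    ((EtCoh.pullPushAdj f).rightAdjoint_preservesLimits : PreservesLimitsOfSize.{0, 0} _).preservesFiniteLimits
  haveI : (EtCoh.push f).Additive := Functor.additive_of_preserves_binary_products _
  let u := (EtCoh.pullPushAdj f).unit.app F
  have hu : ∀ (Ω : Type u) [Field Ω] [IsSepClosed Ω] (ξ : Spec (CommRingCat.of Ω) ⟶ X),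
      ¬ IsClosed ({ξ.base (default : Spec (CommRingCat.of Ω))} : Set X) → IsIso ((EtCoh.stalk ξ).map u) := by
    intro Ω _ _ ξ hnc
    have hξ : ξ.base (default : Spec (CommRingCat.of Ω)) = genericPoint X := by
      by_contra hne
      exact hnc (hdvr _ hne).2
    obtain ⟨ζ, rfl⟩ := GrothLib.CdBr2.exists_lift_residue ξ (genericPoint X) hξ
    haveI := GrothLib.CdBr2.isIso_counit_maxPt (genericPoint X) generic_max ((EtCoh.pull f).obj F)
    have e := (EtCoh.pullPushAdj f).left_triangle_components F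
    haveI : IsIso ((EtCoh.pull f).map u ≫ (EtCoh.pullPushAdj f).counit.app ((EtCoh.pull f).obj F)) :=
      ⟨𝟙 _, by rw [Category.comp_id]; exact e, by rw [Category.id_comp]; exact e⟩
    haveI : IsIso ((EtCoh.pull f).map u) := IsIso.of_isIso_comp_right _ ((EtCoh.pullPushAdj f).counit.app ((EtCoh.pull f).obj F))
    exact (NatIso.isIso_map_iff (pullStalkIso ζ f) u).1 (by
      change IsIso ((EtCoh.stalk ζ).map ((EtCoh.pull f).map u))
      infer_instance)
  let K₁ := ShortComplex.mk (kernel.ι u) (cokernel.π (kernel.ι u)) (cokernel.condition _)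
  have hK₁ : K₁.ShortExact := { exact := K₁.exact_of_g_is_cokernel (cokernelIsCokernel _) }
  let b : K₁.X₃ ⟶ (EtCoh.push f).obj ((EtCoh.pull f).obj F) := Abelian.factorThruCoimage u
  haveI : Mono b := inferInstanceAs (Mono (Abelian.factorThruCoimage _))
  have hb : K₁.g ≫ b = u := Abelian.coimage.fac _
  let K₂ := ShortComplex.mk b (cokernel.π b) (cokernel.condition b)
  have hK₂ : K₂.ShortExact := { exact := K₂.exact_of_g_is_cokernel (cokernelIsCokernel _) }
  have hsupp1 : ∀ (Ω : Type u) [Field Ω] [IsSepClosed Ω] (ξ : Spec (CommRingCat.of Ω) ⟶ X),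
      ¬ IsClosed ({ξ.base (default : Spec (CommRingCat.of Ω))} : Set X) → IsZero ((EtCoh.stalk ξ).obj K₁.X₁) := by
    intro Ω _ _ ξ hnc
    haveI := GrothLib.EtSite.additive_stalk ξ
    haveI := GrothLib.EtSite.preservesFiniteLimits_stalk ξ
    haveI := hu Ω ξ hnc
    haveI : Mono ((EtCoh.stalk ξ).map (kernel.ι u)) := inferInstance
    refine IsZero.of_mono_eq_zero ((EtCoh.stalk ξ).map (kernel.ι u)) ?_
    rw [← cancel_mono ((EtCoh.stalk ξ).map u), ← Functor.map_comp, zero_comp, kernel.condition, Functor.map_zero]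
  have hsupp2 : ∀ (Ω : Type u) [Field Ω] [IsSepClosed Ω] (ξ : Spec (CommRingCat.of Ω) ⟶ X),
      ¬ IsClosed ({ξ.base (default : Spec (CommRingCat.of Ω))} : Set X) → IsZero ((EtCoh.stalk ξ).obj K₂.X₃) := by
    intro Ω _ _ ξ hnc
    haveI := GrothLib.EtSite.additive_stalk ξ
    haveI := GrothLib.EtSite.preservesFiniteColimits_stalk ξ
    haveI := hu Ω ξ hnc
    haveI : Epi ((EtCoh.stalk ξ).map b) := by
      haveI : Epi ((EtCoh.stalk ξ).map K₁.g ≫ (EtCoh.stalk ξ).map b) := by
        rw [← Functor.map_comp, hb]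
        infer_instance
      exact epi_of_epi ((EtCoh.stalk ξ).map K₁.g) _
    exact IsZero.of_iso (isZero_cokernel_of_epi _) (PreservesCokernel.iso (EtCoh.stalk ξ) b)
  have hG : N • 𝟙 ((EtCoh.pull f).obj F) = 0 := killed_map (EtCoh.pull f) hF
  have hp : N • 𝟙 ((EtCoh.push f).obj ((EtCoh.pull f).obj F)) = 0 := killed_map (EtCoh.push f) hG
  haveI : Epi (cokernel.π b) := inferInstance
  have hk2 : N • 𝟙 (cokernel b) = 0 := by
    rw [← cancel_epi (cokernel.π b), Preadditive.comp_nsmul, Category.comp_id, comp_zero,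
      ← Category.id_comp (cokernel.π b), ← Preadditive.nsmul_comp, hp, zero_comp]
  obtain ⟨s, rfl⟩ : ∃ s, r = s + 4 := ⟨r - 4, by omega⟩
  have h2 : Ext.comp x (Ext.mk₀ K₁.g) (add_zero (s + 4)) = 0 := by
    obtain ⟨w, hw⟩ := Ext.covariant_sequence_exact₁ _ hK₂ (Ext.comp x (Ext.mk₀ K₁.g) (add_zero (s + 4)))
      (H_push_eq_zero hdvr hκ hK hN0 hN _ hG s _) (rfl : s + 3 + 1 = s + 4)
    rw [← hw, H_eq_zero_of_supp_closedPts hκ hN0 K₂.X₃ hk2 hsupp2 (s + 3) (by omega) w, Ext.zero_comp]
  obtain ⟨y, rfl⟩ := Ext.covariant_sequence_exact₂ _ hK₁ x h2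
  rw [H_eq_zero_of_supp_closedPts hκ hN0 K₁.X₁ (killed_sub (kernel.ι u) hF) hsupp1 (s + 4) (by omega) y,
    Ext.zero_comp]

include hdvr hκ hK in
/-- The cohomological dimension is at most three. -/
theorem cohDimLE_three (hchar : ∀ (N : ℕ), N ≠ 0 → ∀ x : X, IsUnit ((N : ℕ) : (X.presheaf.stalk x : Type u))) :
    EtCoh.CohDimLE X 3 := fun F hF q hq => ⟨fun x₁ x₂ => by
  suffices h : ∀ x : EtCoh.H X F q, x = 0 from (h x₁).trans (h x₂).symm
  intro x
  obtain ⟨G, i, y, N, hN, hG, rfl⟩ := GrothLib.GalCd.exists_killed_preimage hF q x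
  rw [H_eq_zero_of_killed hdvr hκ hK hN (hchar N hN) G hG q hq y, Ext.zero_comp]⟩

end GrothLib.HLoc18
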