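import Groth.Agent.Lib.CdBr2.Torsion
import Groth.Agent.Lib.GalCd.PtSupp

/-!
# Sheaves supported on closed points of cohomological dimension at most one
-/

set_option autoImplicit false
set_option backward.isDefEq.respectTransparency false
set_option backward.isDefEq.respectTransparency.types false
set_option linter.style.haveILetI false
set_option linter.all false

universe u

open CategoryTheory CategoryTheory.Limits CategoryTheory.Abelian AlgebraicGeometry Opposite
open GrothLib.EtSite GrothLib.EtTrace21 GrothLib.GalCd GrothLib.EtColim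

noncomputable section

namespace GrothLib.HLoc18

variable {X : Scheme.{u}}

theorem killed_map {A B : Scheme.{u}} (L : EtCoh.Ab A ⥤ EtCoh.Ab B) [L.Additive] {N : ℕ} {G : EtCoh.Ab A}
    (h : N • 𝟙 G = 0) : N • 𝟙 (L.obj G) = 0 := by
  rw [← CategoryTheory.Functor.map_id, ← Functor.map_nsmul, h, Functor.map_zero]

theorem killed_sub {A : Scheme.{u}} {N : ℕ} {G H : EtCoh.Ab A} (i : H ⟶ G) [Mono i]
    (h : N • 𝟙 G = 0) : N • 𝟙 H = 0 := by
  rw [← cancel_mono i, Preadditive.nsmul_comp, Category.id_comp, zero_comp]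
  rw [← Category.comp_id i, ← Preadditive.comp_nsmul, h, comp_zero]

/-- The stalks of `Q` off the set `S` vanish. -/
def SuppIn (Q : EtCoh.Ab X) (S : Set X) : Prop :=
  ∀ (Ω : Type u) [Field Ω] [IsSepClosed Ω] (ξ : Spec (CommRingCat.of Ω) ⟶ X),
    ξ.base (default : Spec (CommRingCat.of Ω)) ∉ S → IsZero ((EtCoh.stalk ξ).obj Q)

theorem isZero_of_suppIn_empty (Q : EtCoh.Ab X) (h : SuppIn Q ∅) : IsZero Q :=
  (IsZero.iff_id_eq_zero Q).2 (GrothLib.ExtZero.zero_of_stalks _ fun Ω _ _ ξ =>
    (h Ω ξ (Set.notMem_empty _)).eq_of_src _ _)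

/-- Finitely many closed points. -/
theorem H_eq_zero_of_suppIn (hκ : ∀ v : X, IsClosed ({v} : Set X) → EtCoh.CohDimLE (Spec (X.residueField v)) 1)
    {N : ℕ} (hN : N ≠ 0) (F : Finset (ClosedPts X)) :
    ∀ (Q : EtCoh.Ab X), N • 𝟙 Q = 0 → SuppIn Q (Subtype.val '' (F : Set (ClosedPts X))) →
      ∀ q : ℕ, 2 ≤ q → ∀ x : EtCoh.H X Q q, x = 0 := by
  classical
  induction F using Finset.induction_on with
  | empty =>
    intro Q _ hQ q _ x
    have h0 := isZero_of_suppIn_empty Q (by simpa using hQ)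
    rw [← Ext.comp_mk₀_id x, h0.eq_of_src (𝟙 Q) 0, Ext.mk₀_zero, Ext.comp_zero]
  | insert v F hv ih =>
    intro Q hk hQ q hq x
    let i := X.fromSpecResidueField v.1
    haveI : IsClosedImmersion i := isClosed_singleton_iff_isClosedImmersion.mp v.2
    haveI := GrothLib.EtDer.pullFL i
    haveI : (EtCoh.pull i).Additive := Functor.additive_of_preserves_binary_products _
    haveI : PreservesFiniteLimits (EtCoh.push i) :=
      ((EtCoh.pullPushAdj i).rightAdjoint_preservesLimits : PreservesLimitsOfSize.{0, 0} _).preservesFiniteLimits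
    haveI : (EtCoh.push i).Additive := Functor.additive_of_preserves_binary_products _
    let u := (EtCoh.pullPushAdj i).unit.app Q
    have hu : ∀ (Ω : Type u) [Field Ω] [IsSepClosed Ω] (ξ : Spec (CommRingCat.of Ω) ⟶ X),
        ξ.base (default : Spec (CommRingCat.of Ω)) = v.1 → IsIso ((EtCoh.stalk ξ).map u) := by
      intro Ω _ _ ξ hξ
      obtain ⟨ζ, rfl⟩ := GrothLib.CdBr2.exists_lift_residue ξ v.1 hξ
      haveI : IsIso ((EtCoh.pullPushAdj i).counit.app ((EtCoh.pull i).obj Q)) := GrothLib.EtSite.isIso_counit i _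
      have e := (EtCoh.pullPushAdj i).left_triangle_components Q
      haveI : IsIso ((EtCoh.pull i).map u ≫ (EtCoh.pullPushAdj i).counit.app ((EtCoh.pull i).obj Q)) :=
        ⟨𝟙 _, by rw [Category.comp_id]; exact e, by rw [Category.id_comp]; exact e⟩
      haveI : IsIso ((EtCoh.pull i).map u) := IsIso.of_isIso_comp_right _ ((EtCoh.pullPushAdj i).counit.app ((EtCoh.pull i).obj Q))
      exact (NatIso.isIso_map_iff (pullStalkIso ζ i) u).1 (by
        change IsIso ((EtCoh.stalk ζ).map ((EtCoh.pull i).map u))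
        infer_instance)
    have hout : ∀ (Ω : Type u) [Field Ω] [IsSepClosed Ω] (ξ : Spec (CommRingCat.of Ω) ⟶ X),
        ξ.base (default : Spec (CommRingCat.of Ω)) ≠ v.1 →
          IsZero ((EtCoh.stalk ξ).obj ((EtCoh.push i).obj ((EtCoh.pull i).obj Q))) := fun Ω _ _ ξ hξ =>
      GrothLib.EtSite.stalk_push_isZero i _ ξ (by
        rw [Scheme.range_fromSpecResidueField, Set.mem_singleton_iff]
        exact hξ)
    haveI : Epi u := Preadditive.epi_of_isZero_cokernel _ ((IsZero.iff_id_eq_zero _).2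
      (GrothLib.ExtZero.zero_of_stalks _ fun Ω _ _ ξ => by
        haveI := GrothLib.EtSite.additive_stalk ξ
        haveI := GrothLib.EtSite.preservesFiniteColimits_stalk ξ
        have hz : IsZero ((EtCoh.stalk ξ).obj (cokernel u)) := by
          haveI : Epi ((EtCoh.stalk ξ).map u) := by
            by_cases hξ : ξ.base (default : Spec (CommRingCat.of Ω)) = v.1
            · haveI := hu Ω ξ hξ
              infer_instance
            · exact ⟨fun a b _ => (hout Ω ξ hξ).eq_of_src _ _⟩
          exact IsZero.of_iso (isZero_cokernel_of_epi _) (PreservesCokernel.iso (EtCoh.stalk ξ) u)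
        exact hz.eq_of_src _ _))
    let T := ShortComplex.mk (kernel.ι u) u (kernel.condition u)
    have hT : T.ShortExact := { exact := T.exact_of_f_is_kernel (kernelIsKernel u) }
    have hK : SuppIn T.X₁ (Subtype.val '' (F : Set (ClosedPts X))) := by
      intro Ω _ _ ξ hξ
      haveI := GrothLib.EtSite.additive_stalk ξ
      haveI := GrothLib.EtSite.preservesFiniteLimits_stalk ξ
      haveI : Mono ((EtCoh.stalk ξ).map T.f) := inferInstance
      refine IsZero.of_mono_eq_zero ((EtCoh.stalk ξ).map T.f) ?_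
      by_cases hv' : ξ.base (default : Spec (CommRingCat.of Ω)) = v.1
      · haveI := hu Ω ξ hv'
        rw [← cancel_mono ((EtCoh.stalk ξ).map u), ← Functor.map_comp, zero_comp]
        exact (congrArg _ T.zero).trans (Functor.map_zero _ _ _)
      · refine (hQ Ω ξ ?_).eq_of_tgt _ _
        rintro ⟨w, hw, hwξ⟩
        rcases Finset.mem_insert.1 hw with rfl | hw
        · exact hv' hwξ.symm
        · exact hξ ⟨w, hw, hwξ⟩
    have h2 : Ext.comp x (Ext.mk₀ u) (add_zero q) = 0 := by
      refine (Groth.Agent.S14451.result i _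
        (fun r hr => GrothLib.EtSite.isZero_Rpush_of_integral i _ r hr) q).1 ?_
      haveI := hκ v.1 v.2 _ (isTorsion_of_killed hN (killed_map (EtCoh.pull i) hk)) q (by omega)
      exact Subsingleton.elim _ _
    obtain ⟨y, rfl⟩ := Ext.covariant_sequence_exact₂ _ hT x h2
    haveI : Mono T.f := inferInstanceAs (Mono (kernel.ι u))
    rw [ih T.X₁ (killed_sub T.f hk) hK q hq y, Ext.zero_comp]

/-- Sheaves supported on closed points have no cohomology above degree one. -/
theorem H_eq_zero_of_supp_closedPts [AlgebraicGeometry.IsNoetherian X]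
    (hκ : ∀ v : X, IsClosed ({v} : Set X) → EtCoh.CohDimLE (Spec (X.residueField v)) 1)
    {N : ℕ} (hN : N ≠ 0) (Q : EtCoh.Ab X) (hk : N • 𝟙 Q = 0)
    (hQ : ∀ (Ω : Type u) [Field Ω] [IsSepClosed Ω] (ξ : Spec (CommRingCat.of Ω) ⟶ X),
      ¬ IsClosed ({ξ.base (default : Spec (CommRingCat.of Ω))} : Set X) → IsZero ((EtCoh.stalk ξ).obj Q))
    (q : ℕ) (hq : 2 ≤ q) (x : EtCoh.H X Q q) : x = 0 := by
  classical
  haveI := isIso_suppDesc hQ
  let c := colimit.desc (suppDiag Q) (suppCocone Q)
  obtain ⟨i, y, hy⟩ := (gen_and_kill (suppDiag Q) q).1 (Ext.comp x (Ext.mk₀ (inv c)) (add_zero q))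
  let ι := kernel.ι (EtDual.unitApp (ptsCompl i.down).ι Q)
  have hs : SuppIn (suppPart Q i.down) (Subtype.val '' (i.down : Set (ClosedPts X))) := by
    intro Ω _ _ ξ hξ
    haveI := GrothLib.EtSite.additive_stalk ξ
    haveI := GrothLib.EtSite.preservesFiniteLimits_stalk ξ
    haveI : Mono ((EtCoh.stalk ξ).map ι) := inferInstance
    refine IsZero.of_mono_eq_zero ((EtCoh.stalk ξ).map ι) ?_
    exact GrothLib.EtSupp19.stalk_map_eq_zero (ptsCompl i.down).ι _
      ((GrothLib.EtSupp19.pull_map_eq_zero_iff _ _).2 (kernel.condition _)) ξ (by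
        rw [Scheme.Opens.range_ι]
        exact hξ)
  rw [H_eq_zero_of_suppIn hκ hN i.down _ (killed_sub ι hk) hs q hq y, Ext.zero_comp] at hy
  refine (GrothLib.EtDer.bijective_comp_mk₀ (asIso (inv c)) q).1 (hy.symm.trans ?_)
  exact (Ext.zero_comp _ _ _ _ (add_zero q)).symm

end GrothLib.HLoc18
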