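import Groth.Agent.Lib.HLoc18.Setup
import Groth.Agent.Lib.Dim.Ring
import Groth.Prelude.Def_EGA4b

/-!
# The punctured spectrum of a two-dimensional henselian ring in a finite extension
-/

set_option autoImplicit false
set_option backward.isDefEq.respectTransparency false
set_option backward.isDefEq.respectTransparency.types false
set_option linter.style.haveILetI false
set_option linter.all false

universe u

open CategoryTheory CategoryTheory.Limits AlgebraicGeometry

noncomputable section

namespace GrothLib.HLoc18

/-- The punctured spectrum has cohomological dimension at most three, and is a one-dimensional reduced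
noetherian scheme of characteristic zero. -/
theorem punctured (k : Type u) [Field k] [CharZero k]
    (R₀ : Type u) [CommRing R₀] [IsDomain R₀] [HenselianLocalRing R₀] [Algebra k R₀]
    [IsIntegrallyClosed R₀] (hexc : EGA4.IsExcellent R₀) (hdim : ringKrullDim R₀ = 2)
    (K : Type u) [Field K] [Algebra R₀ K] [Algebra (FractionRing R₀) K]
    [IsScalarTower R₀ (FractionRing R₀) K] [FiniteDimensional (FractionRing R₀) K]
    (U : (Spec (CommRingCat.of ↥(integralClosure R₀ K))).Opens)
    (hU : ∀ x : ↥(Spec (CommRingCat.of ↥(integralClosure R₀ K))), x ∈ U →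
      ¬ IsClosed ({x} : Set ↥(Spec (CommRingCat.of ↥(integralClosure R₀ K)))))
    (hne : Nonempty ↥(↑U : Scheme.{u}))
    (hcdK : EtCoh.CohDimLE (Spec (CommRingCat.of K)) 2)
    (hcdv : ∀ x : ↥(↑U : Scheme.{u}), IsClosed ({x} : Set ↥(↑U : Scheme.{u})) →
      EtCoh.CohDimLE (Spec ((↑U : Scheme.{u}).residueField x)) 1) :
    EtCoh.CohDimLE (↑U : Scheme.{u}) 3 ∧ AlgebraicGeometry.IsNoetherian (↑U : Scheme.{u}) ∧
      IsReduced (↑U : Scheme.{u}) ∧ topologicalKrullDim (↑U : Scheme.{u}) ≤ 1 ∧
      ∀ n : ℕ, n ≠ 0 → Dix.InvertibleOn (↑U : Scheme.{u}) n := by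
  haveI : IsNoetherianRing R₀ := hexc.1
  haveI : CharZero R₀ := charZero_of_injective_algebraMap (algebraMap k R₀).injective
  haveI : CharZero (FractionRing R₀) := charZero_of_injective_algebraMap (IsFractionRing.injective R₀ (FractionRing R₀))
  haveI : Algebra.IsSeparable (FractionRing R₀) K := Algebra.IsSeparable.of_integral _ _
  haveI : FaithfulSMul R₀ K := (faithfulSMul_iff_algebraMap_injective R₀ K).2 <| by
    rw [IsScalarTower.algebraMap_eq R₀ (FractionRing R₀) K]
    exact (algebraMap (FractionRing R₀) K).injective.comp (IsFractionRing.injective R₀ _)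
  let A := ↥(integralClosure R₀ K)
  haveI : Module.Finite R₀ A := IsIntegralClosure.finite R₀ (FractionRing R₀) K A
  haveI : IsNoetherianRing A := IsNoetherianRing.of_finite R₀ A
  haveI : IsFractionRing A K := integralClosure.isFractionRing_of_finite_extension (FractionRing R₀) K
  haveI : IsIntegrallyClosed A := integralClosure.isIntegrallyClosedOfFiniteExtension (FractionRing R₀)
  haveI : CharZero A := charZero_of_injective_algebraMap (FaithfulSMul.algebraMap_injective R₀ A)
  haveI : Algebra.IsIntegral R₀ A := inferInstance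
  have hA : ringKrullDim A ≤ 2 := by
    rw [← hdim]
    exact GrothLib.Dim.ringKrullDim_le_of_isIntegral R₀ A
  have hunits : ∀ N : ℕ, N ≠ 0 → IsUnit (N : A) := fun N hN => by
    have := ((Nat.cast_ne_zero.2 hN : (N : k) ≠ 0).isUnit.map (algebraMap k R₀)).map (algebraMap R₀ A)
    rwa [map_natCast, map_natCast] at this
  obtain ⟨hi, hN, hdvr, hst, ⟨e⟩⟩ := exists_data U hA hunits hU hne K
  haveI := hi
  haveI := hN
  have hK : EtCoh.CohDimLE (Spec ((↑U : Scheme.{u}).residueField (genericPoint (↑U : Scheme.{u})))) 2 :=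
    cohDimLE_of_iso (Spec.map e.toCommRingCatIso.inv) hcdK
  refine ⟨cohDimLE_three hdvr hcdv hK hst, hN, inferInstance,
    dim_le_one fun x hx => (hdvr x hx).2, fun n hn x => ?_⟩
  have := ((hst n hn x).map ((↑U : Scheme.{u}).residue x).hom).ne_zero
  rwa [map_natCast] at this

end GrothLib.HLoc18
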